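import Groth.Agent.Deform.TorusExist.Unip
import Groth.Agent.Deform.Borel.Centre
import Groth.Agent.Deform.Borel.Conj
import Groth.Agent.Deform.Borel.UnipRad
import Groth.Agent.Deform.Chev.SemiAbExt
import Groth.Agent.AVFrobKer.Scheme
import Groth.Agent.GrpSchLib.AffineHopfClosed
import Groth.Agent.GrpSchLib.HopfFlat
import Groth.Agent.ComodLib.Unitriangular
import Groth.Agent.ComodLib.Push
import Mathlib.LinearAlgebra.Semisimple
import Mathlib.RingTheory.Spectrum.Prime.Topology

/-!
# Connected groups all of whose points are semisimple are commutative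
-/

set_option autoImplicit false
set_option linter.style.haveILetI false
set_option linter.unusedSectionVars false
set_option maxHeartbeats 1000000

universe u v

open CategoryTheory CategoryTheory.Limits MonoidalCategory CartesianMonoidalCategory AlgebraicGeometry
open scoped MonObj
open TensorProduct WithConv Polynomial
open Groth.Agent.ComodLib
open Groth.Agent.GrpSchLib.AffineHopf

attribute [local instance] CategoryTheory.Hom.monoid CategoryTheory.Hom.group

noncomputable section

namespace Groth.Agent.Deform.SSTorus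

variable {k : Type u} [Field k]

/-- Every element is killed by a squarefree polynomial in the translation by any point. -/
def LocSS (k : Type u) [Field k] (A : Type v) [CommRing A] [HopfAlgebra k A] : Prop :=
  ∀ (g : A →ₐ[k] k) (a : A), ∃ P : k[X], Squarefree P ∧ aeval (actF (V := A) g.toLinearMap) P a = 0

/-- Intertwined operators have intertwined polynomials. -/
theorem aeval_comm {V W : Type*} [AddCommGroup V] [Module k V] [AddCommGroup W] [Module k W] (e : V →ₗ[k] W)
    (T : Module.End k V) (S : Module.End k W) (h : ∀ v, e (T v) = S (e v)) (P : k[X]) (v : V) :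
    e (aeval T P v) = aeval S P (e v) := by
  induction P using Polynomial.induction_on' with
  | add p q hp hq => simp [hp, hq]
  | monomial n a =>
    have hn : ∀ n, ∀ v, e ((T ^ n) v) = (S ^ n) (e v) := by
      intro n
      induction n with
      | zero => simp
      | succ n ih => intro v; rw [pow_succ, pow_succ, Module.End.mul_apply, Module.End.mul_apply, ih, h]
    simp [aeval_monomial, Module.algebraMap_end_apply, hn]

theorem locSS_of_forall_isSemisimple (A : Type v) [CommRing A] [HopfAlgebra k A]
    (hss : ∀ (g : A →ₐ[k] k) (V : Type v) [AddCommGroup V] [Module k V] [HopfRep.Comod k A V],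
      Module.Finite k V → Module.End.IsSemisimple (HopfRep.Comod.act k A V g)) : LocSS k A := by
  intro g a
  obtain ⟨U, hUf, haU, hU⟩ := exists_finite_subcomod_mem (C := A) (k := k) (V := A) a
  letI : HopfRep.Comod k A U := ComodSub.Comod.restr (HopfRep.Comod.regular k A) U hU
  let T : Module.End k U := HopfRep.Comod.act k A U g
  have hT : ∀ u : U, U.subtype (T u) = actF g.toLinearMap (U.subtype u) := fun u =>
    comodHom_actF (ComodSub.isComodHom_subtype _ U hU) g.toLinearMap u
  refine ⟨minpoly k T, (hss g U hUf).minpoly_squarefree, ?_⟩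
  have h := aeval_comm U.subtype T (actF g.toLinearMap) hT (minpoly k T) ⟨a, haU⟩
  rw [show aeval T (minpoly k T) = 0 from minpoly.aeval k T, LinearMap.zero_apply, map_zero] at h
  exact h.symm

theorem locSS_of_equiv {A : Type v} [CommRing A] [HopfAlgebra k A] {A' : Type u} [CommRing A'] [HopfAlgebra k A']
    (e : A' →ₐ[k] A) (he : Function.Bijective e)
    (hΔ : ∀ x, Algebra.TensorProduct.map e e (Coalgebra.comul (R := k) x) = Coalgebra.comul (R := k) (e x))
    (h : LocSS k A) : LocSS k A' := by
  intro g a
  let e' := AlgEquiv.ofBijective e he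
  obtain ⟨P, hP, hPa⟩ := h (g.comp e'.symm.toAlgHom) (e a)
  refine ⟨P, hP, he.1 ?_⟩
  have hcomm : ∀ x, e (actF g.toLinearMap x) = actF (g.comp e'.symm.toAlgHom).toLinearMap (e x) := by
    intro x
    rw [actF_apply, actF_apply]
    show e (slice _ (Coalgebra.comul (R := k) x)) = slice _ (Coalgebra.comul (R := k) (e x))
    rw [← hΔ]
    induction Coalgebra.comul (R := k) x using TensorProduct.induction_on with
    | zero => simp
    | add p q hp hq => simp only [map_add, hp, hq]
    | tmul p q =>
      rw [Algebra.TensorProduct.map_tmul, slice_tmul, slice_tmul, map_smul]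
      congr 1
      show g q = g (e'.symm (e' q))
      rw [e'.symm_apply_apply]
  rw [map_zero, ← hPa]
  exact aeval_comm e.toLinearMap _ _ hcomm P a

/-- A semisimple point of a unipotent subgroup is the unit. -/
theorem point_eq_counit {A C : Type u} [CommRing A] [HopfAlgebra k A] [CommRing C] [HopfAlgebra k C]
    (hA : LocSS k A) (π : A →ₐc[k] C) (hU : HopfRep.IsUnipotent k C) (y : C →ₐ[k] k) (a : A) :
    y (π a) = Coalgebra.counit (R := k) a := by
  classical
  let g : A →ₐ[k] k := y.comp (π : A →ₐ[k] C)
  obtain ⟨U, hUf, haU, hU'⟩ := exists_finite_subcomod_mem (C := A) (k := k) (V := A) a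
  letI cA : HopfRep.Comod k A U := ComodSub.Comod.restr (HopfRep.Comod.regular k A) U hU'
  letI cC : HopfRep.Comod k C U := pushComod π.toCoalgHom cA
  obtain ⟨b, hb⟩ := exists_uniMatrix_basis hU U
  let T : Module.End k U := actF g.toLinearMap
  have hT : ∀ u : U, U.subtype (T u) = actF g.toLinearMap (U.subtype u) := fun u =>
    comodHom_actF (ComodSub.isComodHom_subtype _ U hU') g.toLinearMap u
  have hTb : ∀ j, T (b j) = ∑ i, y (coeffMatrix (A := C) b i j) • b i := by
    intro j
    have h1 : T (b j) = actF (C := C) y.toLinearMap (b j) :=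
      (actF_comp_of_push π.toCoalgHom rfl y.toLinearMap (b j)).symm
    rw [h1, actF_apply, coact_basis, map_sum]
    exact Finset.sum_congr rfl fun i _ => slice_tmul _ _ _
  have hnil : ∀ n : ℕ, ∀ j : Fin (Module.finrank k U), (j : ℕ) < n → ((T - 1) ^ n) (b j) = 0 := by
    intro n
    induction n with
    | zero => intro j hj; exact absurd hj (by omega)
    | succ n ih =>
      intro j hj
      rw [pow_succ, Module.End.mul_apply, LinearMap.sub_apply, Module.End.one_apply, hTb]
      have e : ∑ i, y (coeffMatrix (A := C) b i j) • b i - b j =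
          ∑ i ∈ Finset.univ.filter (fun i => i < j), y (coeffMatrix (A := C) b i j) • b i := by
        rw [← Finset.sum_filter_add_sum_filter_not Finset.univ (fun i => i < j), add_sub_assoc,
          add_eq_left, sub_eq_zero, Finset.sum_eq_single_of_mem j (by simp)]
        · rw [hb.1 j j le_rfl, if_pos rfl, map_one, one_smul]
        · intro i hi hij
          rw [hb.1 i j (le_of_not_gt (Finset.mem_filter.1 hi).2), if_neg hij, map_zero, zero_smul]
      rw [e, map_sum]
      refine Finset.sum_eq_zero fun i hi => ?_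
      have hlt : (i : ℕ) < (j : ℕ) := (Finset.mem_filter.1 hi).2
      rw [map_smul, ih i (by omega), smul_zero]
  let m := Module.finrank k U
  have hm : ((T - 1) ^ m) = 0 := b.ext fun j => by rw [hnil m j j.2, LinearMap.zero_apply]
  let R : Module.End k A := actF g.toLinearMap
  have hQ : aeval R ((X - 1 : k[X]) ^ m) a = 0 := by
    have h := aeval_comm U.subtype T R hT ((X - 1 : k[X]) ^ m) ⟨a, haU⟩
    rw [map_pow, map_sub, aeval_X, map_one, hm, LinearMap.zero_apply, map_zero] at h
    exact h.symm
  obtain ⟨P, hP, hPa⟩ := hA g a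
  let q := EuclideanDomain.gcd P ((X - 1 : k[X]) ^ m)
  have hqP : q ∣ P := EuclideanDomain.gcd_dvd_left _ _
  have hqQ : q ∣ (X - 1 : k[X]) ^ m := EuclideanDomain.gcd_dvd_right _ _
  have hqa : aeval R q a = 0 := by
    show aeval R (EuclideanDomain.gcd P ((X - 1 : k[X]) ^ m)) a = 0
    rw [EuclideanDomain.gcd_eq_gcd_ab, map_add, LinearMap.add_apply, mul_comm P, mul_comm ((X - 1 : k[X]) ^ m),
      map_mul, map_mul, Module.End.mul_apply, Module.End.mul_apply, hPa, hQ, map_zero, map_zero, add_zero]
  obtain ⟨r, hr⟩ := (hP.squarefree_of_dvd hqP).isRadical m (X - 1) hqQ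
  have h1 : R a = a := by
    have h : aeval R (X - 1 : k[X]) a = 0 := by
      rw [hr, mul_comm, map_mul, Module.End.mul_apply, hqa, map_zero]
    rw [map_sub, aeval_X, map_one, LinearMap.sub_apply, Module.End.one_apply, sub_eq_zero] at h
    exact h
  have h2 := congrArg (Coalgebra.counit (R := k) (A := A)) h1
  have h3 : ∀ z : A ⊗[k] A, Coalgebra.counit (R := k) (slice g.toLinearMap z) =
      g.toLinearMap (TensorProduct.lid k A ((Coalgebra.counit (R := k) (A := A)).rTensor A z)) := by
    intro z
    induction z using TensorProduct.induction_on with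
    | zero => simp
    | add p q hp hq => simp only [map_add, hp, hq]
    | tmul p q => simp [mul_comm]
  rw [show R a = slice g.toLinearMap (Coalgebra.comul (R := k) a) from rfl, h3, Coalgebra.rTensor_counit_comul,
    TensorProduct.lid_tmul, one_smul] at h2
  exact h2

variable [IsAlgClosed k]

/-- The unit object as a spectrum. -/
theorem nonempty_e1 : Nonempty (𝟙_ (Over (Spec (CommRingCat.of k))) ≅ sp k k) := by
  refine ⟨Over.isoMk (Iso.refl (Spec (CommRingCat.of k))) ?_⟩
  show 𝟙 _ ≫ Spec.map (CommRingCat.ofHom (algebraMap k k)) = 𝟙 _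
  rw [Category.id_comp, Algebra.algebraMap_self]
  exact Spec.map_id _

/-- A fixed choice of the unit object as a spectrum. -/
def e1 : 𝟙_ (Over (Spec (CommRingCat.of k))) ≅ sp k k := (nonempty_e1 (k := k)).some

theorem pt_comm_of_torus {T : Over (Spec (CommRingCat.of k))} [GrpObj T] (hT : Red.IsTorus T)
    (x y : Chev.Pt T) : x * y = y * x := by
  obtain ⟨r, ⟨e⟩⟩ := Deform.exists_split T hT
  obtain ⟨d⟩ := nonempty_DS_iso k (Fin r → ℤ)
  let i : sp k (MonoidAlgebra k (Multiplicative (Fin r → ℤ))) ≅ T := (Grp.forget _).mapIso (d.trans e.symm)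
  haveI : IsMonHom i.hom := (d.trans e.symm).hom.hom.isMonHom_hom
  have h : ∀ z : Chev.Pt T, ∃ u : MonoidAlgebra k (Multiplicative (Fin r → ℤ)) →ₐ[k] k,
      (e1.hom ≫ spMap u) ≫ i.hom = z := fun z => by
    obtain ⟨u, hu⟩ := exists_eq_spMap (e1.inv ≫ z ≫ i.inv)
    exact ⟨u, by rw [← hu, Iso.hom_inv_id_assoc, Category.assoc, Iso.inv_hom_id, Category.comp_id]⟩
  obtain ⟨u, rfl⟩ := h x
  obtain ⟨v, rfl⟩ := h y
  rw [← MonObj.mul_comp, ← MonObj.mul_comp, ← MonObj.comp_mul, ← MonObj.comp_mul, spMap_mul, spMap_mul, mul_comm (toConv u)]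

/-- **A connected group all of whose points are semisimple is commutative.** -/
theorem isCommMonObj_of_locSS (A : Type u) [CommRing A] [HopfAlgebra k A] [Algebra.FiniteType k A] [_root_.IsReduced A]
    (hconn : ∀ e : A, IsIdempotentElem e → e = 0 ∨ e = 1) (h : LocSS k A) : IsCommMonObj (sp k A) := by
  let G := sp k A
  haveI : IsAffine G.left := inferInstanceAs (IsAffine (Spec (CommRingCat.of A)))
  haveI : IsReduced G.left := inferInstanceAs (IsReduced (Spec (CommRingCat.of A)))
  haveI : LocallyOfFiniteType G.hom := by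
    show LocallyOfFiniteType (Spec.map (CommRingCat.ofHom (algebraMap k A)))
    rw [HasRingHomProperty.Spec_iff (P := @LocallyOfFiniteType), CommRingCat.hom_ofHom, RingHom.finiteType_algebraMap]
    infer_instance
  haveI : Smooth G.hom := GrpSchLib.smooth_of_isReduced_of_isAlgClosed G
  haveI : Nontrivial A := (Bialgebra.counitAlgHom k A).toRingHom.domain_nontrivial
  haveI : ConnectedSpace G.left := by
    haveI : Nonempty (PrimeSpectrum A) := inferInstance
    haveI : PreconnectedSpace (PrimeSpectrum A) := preconnectedSpace_iff_clopen.2 fun s hs => by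
      obtain ⟨e, he, rfl⟩ := PrimeSpectrum.exists_idempotent_basicOpen_eq_of_isClopen hs
      rcases hconn e he with rfl | rfl
      · left; simp
      · right; simp
    show ConnectedSpace (PrimeSpectrum A)
    exact ConnectedSpace.mk ‹_›
  haveI : IsAffineHom G.hom := isAffineHom_of_isAffine _
  haveI := GrpSchLib.AntiAffine.isSeparated_grp G
  obtain ⟨B, gB, iB, hB, -, -⟩ := Borel.exists_borel G
  letI := gB
  obtain ⟨hBm, hBc, hBs, hBconn, hBsol, -⟩ := id hB
  haveI := hBm; haveI := hBc; haveI := hBs; haveI := hBconn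
  haveI : IsAffine B.left := isAffine_of_isAffineHom iB.left
  haveI := Borel.isSolvable_pts_of_grp hBsol
  obtain ⟨T, gT, iT, ρ, K, gK, κ, hT, hρ, hiT, -, hκ, hκc, hKs, hKc, hpts, hKn⟩ := Borel.exists_rad B
  letI := gT; letI := gK
  haveI := hρ; haveI := hκ; haveI := hκc; haveI := hKs; haveI := hKc
  haveI : IsAffine K.left := isAffine_of_isAffineHom κ.left
  obtain ⟨C, _, _, ⟨eC⟩⟩ := exists_hopf K
  let c : sp k C ≅ K := (Grp.forget _).mapIso eC
  haveI : IsMonHom c.hom := eC.hom.hom.isMonHom_hom
  haveI : IsMonHom c.inv := eC.inv.hom.isMonHom_hom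
  haveI : IsIso c.hom.left := ((Over.forget _).mapIso c).isIso_hom
  haveI : Smooth (sp k C).hom := by rw [← Over.w c.hom]; infer_instance
  haveI hlft : LocallyOfFiniteType (sp k C).hom := inferInstance
  haveI : Algebra.FiniteType k C := RingHom.finiteType_algebraMap.mp
    ((HasRingHomProperty.Spec_iff (P := @LocallyOfFiniteType) (φ := CommRingCat.ofHom (algebraMap k C))).mp hlft)
  haveI : IsDomain C := by
    haveI : IsAffineHom K.hom := isAffineHom_of_isAffine _
    haveI : IsIntegral K.left := GrpSchLib.Kunneth.isIntegral_grp K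
    haveI : Nonempty ↥(Spec (CommRingCat.of C)) := ⟨c.inv.left (Classical.arbitrary _)⟩
    haveI : IsOpenImmersion c.hom.left := IsOpenImmersion.of_isIso _
    exact (affine_isIntegral_iff (CommRingCat.of C)).mp (@isIntegral_of_isOpenImmersion _ _ c.hom.left ‹_› _ ‹_›)
  have hU : HopfRep.IsUnipotent k C := TorusExist.isUnipotent_of_noSubtorus C fun τ _ j _ _ hτ => hKn τ (j ≫ c.hom) hτ
  obtain ⟨π, hπ⟩ := exists_bialgHom (c.hom ≫ κ ≫ iB)
  have hπs : Function.Surjective π := surjective_of_isClosedImmersion (π : A →ₐ[k] C) (by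
    rw [← hπ]
    exact inferInstanceAs (IsClosedImmersion (c.hom.left ≫ κ.left ≫ iB.left)))
  have hK1 : ∀ y : Chev.Pt K, y = 1 := by
    intro y
    obtain ⟨y₀, hy₀⟩ := exists_eq_spMap (e1.inv ≫ y ≫ c.inv)
    have h0 : y₀ = (1 : WithConv (C →ₐ[k] k)).ofConv := AlgHom.ext fun z => by
      obtain ⟨a, rfl⟩ := hπs z
      rw [point_eq_counit h π hU y₀ a]
      simp [CoalgHomClass.counit_comp_apply]
    rw [← cancel_mono c.inv, ← cancel_epi e1.inv, hy₀, h0, MonObj.one_comp, MonObj.comp_one]
    exact map_one Spec.mapMulEquiv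
  have hBcomm : ∀ x y : Chev.Pt B, x * y = y * x := by
    intro x y
    obtain ⟨w, hw⟩ := (hpts (x * y * (y * x)⁻¹)).2 (by
      rw [MonObj.mul_comp, GrpObj.inv_comp, MonObj.mul_comp, MonObj.mul_comp, pt_comm_of_torus hT (x ≫ ρ) (y ≫ ρ), mul_inv_cancel])
    rw [hK1 w, MonObj.one_comp] at hw
    exact mul_inv_eq_one.1 hw.symm
  haveI : IsAffineHom B.hom := isAffineHom_of_isAffine _
  haveI := GrpSchLib.AntiAffine.isSeparated_grp B
  haveI : Smooth (B ⊗ B).hom := inferInstanceAs (Smooth (pullback.fst B.hom B.hom ≫ B.hom))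
  have hBB : fst B B * snd B B = snd B B * fst B B :=
    Chev.SemiAbExt.ext_points _ _ fun x => by rw [MonObj.comp_mul, MonObj.comp_mul, hBcomm]
  have h1 := Borel.central_of_borel hB iB (by rw [← MonObj.mul_comp, hBB, MonObj.mul_comp])
  have h2 := Borel.central_of_borel hB (𝟙 G) (by
    rw [Category.comp_id]
    have := congrArg (lift (snd G B) (fst G B) ≫ ·) h1
    simp only [MonObj.comp_mul, lift_fst_assoc, lift_snd] at this
    exact this.symm)
  rw [Category.comp_id] at h2
  refine Deform.Extension.isCommMonObj_of fun X x y => ?_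
  have := congrArg (lift x y ≫ ·) h2
  simp only [MonObj.comp_mul] at this
  exact (congrArg₂ (· * ·) (lift_fst x y).symm (lift_snd x y).symm).trans (this.trans (congrArg₂ (· * ·) (lift_snd x y) (lift_fst x y)))

end Groth.Agent.Deform.SSTorus
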